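import Mathlib

/-!
# Gluck-Wolf: symplectic data of the quasi-primitive case (helper662)

`SR p s n X x B` : `Y` acts faithfully and irreducibly on the symplectic space `(U, B)` over `ZMod s`, `|U| = s ^ (2 n)`,
up to scalars; `X` is a normal `p'`-subgroup of `Y` of index `p` preserving `B`; every normal subgroup of `Y` not in
`X` is `Y`; `x` has order `p`.
`SA p s n j X x B` : moreover `Y` preserves `B` and `x` fixes exactly `s ^ (2 (n - j))` elements of `U`.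

`Ineq p s n j q M` : the counting inequality `q ^ (s ^ n - k) ≤ s ^ (2 j) * M`.

`LW p r s n K L Z π a` : `L` is a normal subgroup of `G`, irreducible on the `r`-group `W`, `L / Z = U` of order
`s ^ (2 n)`, nondegenerate; every `w` is fixed by an element outside `K`.
-/

set_option autoImplicit false

open scoped commutatorElement

namespace Cfsg.Agent.H662.GW

/-- Symplectic data up to scalars. -/
structure SR (p s n : ℕ) {Y U : Type*} [Group Y] [Finite Y] [AddCommGroup U] [Finite U]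
    [DistribMulAction Y U] (X : Subgroup Y) (x : Y) (B : U → U → ZMod s) : Prop where
  hp : p.Prime
  hs : s.Prime
  hps : p ≠ s
  hn : 1 ≤ n
  nX : X.Normal
  idx : X.index = p
  cop : ¬ p ∣ Nat.card X
  gen : ∀ M : Subgroup Y, M.Normal → ¬ M ≤ X → M = ⊤
  ord : orderOf x = p
  faith : ∀ y : Y, (∀ u : U, y • u = u) → y = 1
  exp : ∀ u : U, s • u = 0
  card : Nat.card U = s ^ (2 * n)
  addl : ∀ u v w : U, B (u + v) w = B u w + B v w
  addr : ∀ u v w : U, B u (v + w) = B u v + B u w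
  alt : ∀ u : U, B u u = 0
  nd : ∀ u : U, (∀ v : U, B u v = 0) → u = 0
  scale : ∀ y : Y, ∃ c : ZMod s, ∀ u v : U, B (y • u) (y • v) = c * B u v
  invX : ∀ y ∈ X, ∀ u v : U, B (y • u) (y • v) = B u v
  irr : ∀ W : AddSubgroup U, (∀ y : Y, ∀ w ∈ W, y • w ∈ W) → W = ⊥ ∨ W = ⊤

/-- Symplectic data. -/
structure SA (p s n j : ℕ) {Y U : Type*} [Group Y] [Finite Y] [AddCommGroup U] [Finite U]
    [DistribMulAction Y U] (X : Subgroup Y) (x : Y) (B : U → U → ZMod s) : Prop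
    extends SR p s n X x B where
  hj : 1 ≤ j
  hjn : j ≤ n
  fix : Nat.card {u : U // x • u = u} = s ^ (2 * (n - j))
  inv : ∀ (y : Y) (u v : U), B (y • u) (y • v) = B u v

/-- The counting inequality. -/
def Ineq (p s n j q M : ℕ) : Prop :=
  ∃ k : ℕ, p * k ≤ s ^ n + (p - 1) * s ^ (n - j) ∧ q ^ (s ^ n) ≤ q ^ k * s ^ (2 * j) * M

/-- A normal subgroup `L`, irreducible on `W`, with `L / Z` a nondegenerate symplectic space. -/
structure LW (p r s n : ℕ) {G W Y U : Type*} [Group G] [Finite G] [AddCommGroup W] [Finite W]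
    [DistribMulAction G W] [Group Y] [Finite Y] [AddCommGroup U] [Finite U] [DistribMulAction Y U]
    (K L Z : Subgroup G) (π : G →* Y) (a : L →* Multiplicative U) : Prop where
  hp : p.Prime
  hr : r.Prime
  hs : s.Prime
  hps : p ≠ s
  hn : 1 ≤ n
  nK : K.Normal
  idx : K.index = p
  cop : ¬ p ∣ Nat.card K
  nL : L.Normal
  LK : L ≤ K
  nZ : Z.Normal
  ZL : Z ≤ L
  nt : Nontrivial W
  expW : ∀ w : W, r • w = 0
  irr : ∀ A : AddSubgroup W, (∀ l ∈ L, ∀ w ∈ A, l • w ∈ A) → A = ⊥ ∨ A = ⊤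
  P1 : ∀ w : W, ∃ g : G, g ∉ K ∧ g • w = w
  scal : ∀ z ∈ Z, ∀ l ∈ L, ∀ w : W, z • l • w = l • z • w
  expL : ∀ l ∈ L, l ^ s ∈ Z
  comm : ∀ l ∈ L, ∀ l' ∈ L, ⁅l, l'⁆ ∈ Z
  card : Nat.card U = s ^ (2 * n)
  nd : ∀ l ∈ L, (∀ l' ∈ L, ∀ w : W, l • l' • w = l' • l • w) → l ∈ Z
  surj : Function.Surjective a
  ker : ∀ l : L, a l = 1 ↔ (l : G) ∈ Z
  equiv : ∀ (g : G) (l : G) (hl : l ∈ L) (hl' : g * l * g⁻¹ ∈ L),
    Multiplicative.toAdd (a ⟨g * l * g⁻¹, hl'⟩) = π g • Multiplicative.toAdd (a ⟨l, hl⟩)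

end Cfsg.Agent.H662.GW
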