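import Mathlib

/-!
# Gluck-Wolf: an abelian section as a module (helper662)
-/

set_option autoImplicit false

open scoped commutatorElement

namespace Cfsg.Agent.H662.GW

universe u

/-- The section `L / A` (abelian, `A`, `L` normal in `H`) as a module for `H`. -/
theorem exists_module {H : Type u} [Group H] [Finite H] (A L : Subgroup H) (hA : A.Normal) (hL : L.Normal)
    (hab : ∀ a ∈ L, ∀ b ∈ L, ⁅a, b⁆ ∈ A) :
    ∃ (U : Type u) (_ : AddCommGroup U) (_ : Finite U) (_ : DistribMulAction H U) (a : L →* Multiplicative U),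
      Function.Surjective a ∧ (∀ l : L, a l = 1 ↔ (l : H) ∈ A) ∧
      (∀ (g l : H) (hl : l ∈ L) (hl' : g * l * g⁻¹ ∈ L),
        (a ⟨g * l * g⁻¹, hl'⟩).toAdd = g • (a ⟨l, hl⟩).toAdd) := by
  classical
  let q := QuotientGroup.mk' A
  let U₀ : Subgroup (H ⧸ A) := L.map q
  have hU₀ : U₀.Normal := hL.map q (QuotientGroup.mk'_surjective A)
  have hcomm : ∀ a b : U₀, a * b = b * a := by
    rintro ⟨_, a, ha, rfl⟩ ⟨_, b, hb, rfl⟩
    apply Subtype.ext
    change q a * q b = q b * q a
    have h1 : q ⁅a, b⁆ = 1 := (QuotientGroup.eq_one_iff _).2 (hab a ha b hb)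
    rwa [map_commutatorElement, commutatorElement_eq_one_iff_mul_comm] at h1
  let iC : CommGroup U₀ := { (inferInstance : Group U₀) with mul_comm := hcomm }
  let c : H →* MulAut U₀ := (MulAut.conjNormal (H := U₀)).comp q
  have hc : ∀ (g : H) (u : U₀), ((c g u : U₀) : H ⧸ A) = q g * u * (q g)⁻¹ := fun g u => by
    change ((MulAut.conjNormal (q g) u : U₀) : H ⧸ A) = _
    rw [MulAut.conjNormal_apply]
  let act : DistribMulAction H (Additive U₀) :=
    { smul := fun g u => Additive.ofMul (c g u.toMul)
      one_smul := fun u => by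
        change Additive.ofMul (c 1 u.toMul) = u
        rw [map_one]; rfl
      mul_smul := fun g h u => by
        change Additive.ofMul (c (g * h) u.toMul) = Additive.ofMul (c g (c h u.toMul))
        rw [map_mul]; rfl
      smul_zero := fun g => by
        change Additive.ofMul (c g 1) = _
        rw [map_one]; rfl
      smul_add := fun g u v => by
        change Additive.ofMul (c g (u.toMul * v.toMul)) = _
        rw [map_mul]; rfl }
  refine ⟨Additive U₀, inferInstance, inferInstance, act,
    { toFun := fun l => Multiplicative.ofAdd (Additive.ofMul ⟨q l, (l : H), l.2, rfl⟩)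
      map_one' := by
        have : (⟨q ((1 : L) : H), ((1 : L) : H), (1 : L).2, rfl⟩ : U₀) = 1 := Subtype.ext (map_one q)
        rw [this]; rfl
      map_mul' := fun l l' => by
        have : (⟨q ((l * l' : L) : H), ((l * l' : L) : H), (l * l' : L).2, rfl⟩ : U₀) =
          (⟨q l, (l : H), l.2, rfl⟩ : U₀) * ⟨q l', (l' : H), l'.2, rfl⟩ := Subtype.ext (map_mul q (l : H) (l' : H))
        rw [this]; rfl }, ?_, ?_, ?_⟩
  · intro u
    obtain ⟨l, hl, h⟩ := (u.toAdd.toMul : U₀).2
    refine ⟨⟨l, hl⟩, ?_⟩
    apply Multiplicative.toAdd.injective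
    apply Additive.toMul.injective
    exact Subtype.ext h
  · intro l
    rw [← QuotientGroup.eq_one_iff (N := A)]
    constructor
    · intro h
      have h1 := congrArg (fun t : Multiplicative (Additive U₀) => ((t.toAdd.toMul : U₀) : H ⧸ A)) h
      exact h1
    · intro h
      apply Multiplicative.toAdd.injective
      apply Additive.toMul.injective
      exact Subtype.ext h
  · intro g l hl hl'
    apply Additive.toMul.injective
    apply Subtype.ext
    change q (g * l * g⁻¹) = ((c g ⟨q l, l, hl, rfl⟩ : U₀) : H ⧸ A)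
    rw [hc, map_mul, map_mul, map_inv]

end Cfsg.Agent.H662.GW
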