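import Mathlib

/-!
# Gluck-Wolf: the commutator form of a section of symplectic type (helper662)
-/

set_option autoImplicit false

open scoped commutatorElement

namespace Cfsg.Agent.H662.GW

/-- coordinates of the elements of order dividing `s` in a cyclic group -/
theorem exists_tau {Q : Type*} [Group Q] [Finite Q] [IsCyclic Q] {s : ℕ} (hs : s.Prime) :
    ∃ τ : Q → ZMod s, (∀ a b : Q, a ^ s = 1 → b ^ s = 1 → τ (a * b) = τ a + τ b) ∧
      (∀ a : Q, a ^ s = 1 → τ a = 0 → a = 1) ∧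
      (∀ α : Q →* Q, ∃ c : ZMod s, ∀ a : Q, a ^ s = 1 → τ (α a) = c * τ a) := by
  classical
  have : Fact s.Prime := ⟨hs⟩
  by_cases hd : s ∣ Nat.card Q
  · obtain ⟨z, hz⟩ := exists_prime_orderOf_dvd_card' s hd
    have hzs : z ^ s = 1 := by
      have h := pow_orderOf_eq_one z
      rwa [hz] at h
    have hmem : ∀ a : Q, a ^ s = 1 → ∃ k : ZMod s, a = z ^ k.val := by
      intro a ha
      have := Fintype.ofFinite Q
      have h1 : (Finset.univ.filter fun b : Q => b ^ s = 1).card ≤ s := IsCyclic.card_pow_eq_one_le hs.pos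
      let F : Finset Q := Finset.univ.image fun k : ZMod s => z ^ k.val
      have hinj : Function.Injective fun k : ZMod s => z ^ k.val := by
        intro k l hkl
        have h2 := pow_injOn_Iio_orderOf (x := z) (by rw [hz]; exact ZMod.val_lt k) (by rw [hz]; exact ZMod.val_lt l) hkl
        exact ZMod.val_injective s h2
      have hF : F.card = s := by
        rw [Finset.card_image_of_injective _ hinj, Finset.card_univ, ZMod.card]
      have hsub : F ⊆ Finset.univ.filter fun b : Q => b ^ s = 1 := by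
        intro b hb
        obtain ⟨k, -, rfl⟩ := Finset.mem_image.1 hb
        rw [Finset.mem_filter]
        refine ⟨Finset.mem_univ _, ?_⟩
        rw [← pow_mul, mul_comm, pow_mul, hzs, one_pow]
      have heq := Finset.eq_of_subset_of_card_le hsub (by rw [hF]; exact h1)
      have h3 : a ∈ F := by
        rw [heq, Finset.mem_filter]; exact ⟨Finset.mem_univ _, ha⟩
      obtain ⟨k, -, hk⟩ := Finset.mem_image.1 h3
      exact ⟨k, hk.symm⟩
    have huniq : ∀ k l : ZMod s, z ^ k.val = z ^ l.val → k = l := by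
      intro k l hkl
      have h2 := pow_injOn_Iio_orderOf (x := z) (by rw [hz]; exact ZMod.val_lt k) (by rw [hz]; exact ZMod.val_lt l) hkl
      exact ZMod.val_injective s h2
    have hnat : ∀ n : ℕ, z ^ n = z ^ ((n : ZMod s)).val := by
      intro n
      rw [ZMod.val_natCast]
      conv_lhs => rw [← Nat.mod_add_div n s, pow_add, pow_mul, hzs, one_pow, mul_one]
    let τ : Q → ZMod s := fun a => if h : a ^ s = 1 then (hmem a h).choose else 0
    have hτ : ∀ a : Q, a ^ s = 1 → a = z ^ (τ a).val := by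
      intro a ha
      have h1 : τ a = (hmem a ha).choose := dif_pos ha
      rw [h1]
      exact (hmem a ha).choose_spec
    have hτ' : ∀ (a : Q) (n : ℕ), a ^ s = 1 → a = z ^ n → τ a = (n : ZMod s) := by
      intro a n ha h
      apply huniq
      rw [← hτ a ha, ← hnat, h]
    refine ⟨τ, ?_, ?_, ?_⟩
    · intro a b ha hb
      have hab : (a * b) ^ s = 1 := by
        have : Commute a b := by
          rw [hτ a ha, hτ b hb]
          exact (Commute.refl z).pow_pow _ _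
        rw [this.mul_pow, ha, hb, one_mul]
      rw [hτ' (a * b) ((τ a).val + (τ b).val) hab (by rw [pow_add, ← hτ a ha, ← hτ b hb])]
      rw [Nat.cast_add, ZMod.natCast_zmod_val, ZMod.natCast_zmod_val]
    · intro a ha h
      rw [hτ a ha, h, ZMod.val_zero, pow_zero]
    · intro α
      refine ⟨τ (α z), fun a ha => ?_⟩
      have h1 : (α z) ^ s = 1 := by rw [← map_pow, hzs, map_one]
      have h2 : (α a) ^ s = 1 := by rw [← map_pow, ha, map_one]
      rw [hτ' (α a) ((τ (α z)).val * (τ a).val) h2 (by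
        rw [pow_mul, ← hτ _ h1, ← map_pow, ← hτ a ha])]
      rw [Nat.cast_mul, ZMod.natCast_zmod_val, ZMod.natCast_zmod_val]
  · have h1 : ∀ a : Q, a ^ s = 1 → a = 1 := by
      intro a ha
      rcases (Nat.dvd_prime hs).1 (orderOf_dvd_of_pow_eq_one ha) with h | h
      · exact orderOf_eq_one_iff.1 h
      · exact absurd (h ▸ orderOf_dvd_natCard a) hd
    exact ⟨fun _ => 0, fun _ _ _ _ => (add_zero 0).symm, fun a ha _ => h1 a ha, fun α => ⟨0, fun a _ => by simp⟩⟩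

/-- The commutator form. -/
theorem exists_form {H U : Type*} [Group H] [Finite H] [AddCommGroup U] [DistribMulAction H U]
    {N A L : Subgroup H} (hN : N.Normal) (hA : A.Normal) (hL : L.Normal) (hAL : A ≤ L) {s : ℕ} (hs : s.Prime) {g : H}
    (hg : g ∈ A) (hgen : ∀ m ∈ A, ∃ k : ℤ, m * (g ^ k)⁻¹ ∈ N) (hcen : ∀ a ∈ A, ∀ l ∈ L, ⁅a, l⁆ ∈ N)
    (hab : ∀ a ∈ L, ∀ b ∈ L, ⁅a, b⁆ ∈ A) (hexp : ∀ l ∈ L, l ^ s ∈ A)
    (hnd : ∀ l ∈ L, (∀ l' ∈ L, ⁅l, l'⁆ ∈ N) → l ∈ A) (a : L →* Multiplicative U) (hsurj : Function.Surjective a)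
    (hker : ∀ l : L, a l = 1 ↔ (l : H) ∈ A)
    (hequiv : ∀ (g l : H) (hl : l ∈ L) (hl' : g * l * g⁻¹ ∈ L),
        (a ⟨g * l * g⁻¹, hl'⟩).toAdd = g • (a ⟨l, hl⟩).toAdd) :
    ∃ B : U → U → ZMod s, (∀ u v w, B (u + v) w = B u w + B v w) ∧ (∀ u v w, B u (v + w) = B u v + B u w) ∧
      (∀ u, B u u = 0) ∧ (∀ u, (∀ v, B u v = 0) → u = 0) ∧
      (∀ h : H, ∃ c : ZMod s, ∀ u v, B (h • u) (h • v) = c * B u v) ∧
      (∀ h : H, (∀ a ∈ A, ⁅h, a⁆ ∈ N) → ∀ u v, B (h • u) (h • v) = B u v) ∧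
      (∀ l l' : L, B (a l).toAdd (a l').toAdd = 0 ↔ ⁅(l : H), (l' : H)⁆ ∈ N) := by
  classical
  let q := QuotientGroup.mk' N
  let Q : Subgroup (H ⧸ N) := A.map q
  have hcyc : IsCyclic Q := by
    refine ⟨⟨⟨q g, g, hg, rfl⟩, ?_⟩⟩
    rintro ⟨_, m, hm, rfl⟩
    obtain ⟨k, hk⟩ := hgen m hm
    refine Subgroup.mem_zpowers_iff.2 ⟨k, Subtype.ext ?_⟩
    have h1 : q (m * (g ^ k)⁻¹) = 1 := (QuotientGroup.eq_one_iff _).2 hk
    rw [map_mul, map_inv, mul_inv_eq_one, map_zpow] at h1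
    exact h1.symm
  obtain ⟨τ, hτadd, hτinj, hτα⟩ := exists_tau (Q := Q) hs
  have hqA : ∀ a ∈ A, q a ∈ Q := fun a ha => ⟨a, ha, rfl⟩
  have hQc : ∀ t ∈ Q, ∀ l ∈ L, t * q l = q l * t := by
    rintro _ ⟨a, ha, rfl⟩ l hl
    have h1 : q ⁅a, l⁆ = 1 := (QuotientGroup.eq_one_iff _).2 (hcen a ha l hl)
    rwa [map_commutatorElement, commutatorElement_eq_one_iff_mul_comm] at h1
  have hcQ : ∀ l ∈ L, ∀ l' ∈ L, ⁅q l, q l'⁆ ∈ Q := by
    intro l hl l' hl'
    rw [← map_commutatorElement]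
    exact hqA _ (hab l hl l' hl')
  -- bilinearity of the commutator
  have hbl : ∀ x ∈ L, ∀ y ∈ L, ∀ z ∈ L, ⁅q (x * y), q z⁆ = ⁅q x, q z⁆ * ⁅q y, q z⁆ := by
    intro x hx y hy z hz
    have h1 := hQc _ (hcQ y hy z hz) x hx
    rw [map_mul]
    have h2 : ⁅q x * q y, q z⁆ = q x * ⁅q y, q z⁆ * (q x)⁻¹ * ⁅q x, q z⁆ := by
      simp only [commutatorElement_def]; group
    rw [h2, ← h1, mul_inv_cancel_right]
    have h3 : ⁅q x, q z⁆ * ⁅q y, q z⁆ = ⁅q y, q z⁆ * ⁅q x, q z⁆ := by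
      have h4 := hcQ x hx z hz
      have h5 := hab y hy z hz
      have h6 := hQc _ h4 ⁅y, z⁆ (hAL h5)
      rwa [map_commutatorElement] at h6
    rw [h3]
  have hbr : ∀ x ∈ L, ∀ y ∈ L, ∀ z ∈ L, ⁅q x, q (y * z)⁆ = ⁅q x, q y⁆ * ⁅q x, q z⁆ := by
    intro x hx y hy z hz
    have h1 := hQc _ (hcQ x hx z hz) y hy
    rw [map_mul]
    have h2 : ⁅q x, q y * q z⁆ = ⁅q x, q y⁆ * (q y * ⁅q x, q z⁆ * (q y)⁻¹) := by
      simp only [commutatorElement_def]; group
    rw [h2, ← h1, mul_inv_cancel_right]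
  have hA1 : ∀ a ∈ A, ∀ l ∈ L, ⁅q a, q l⁆ = 1 := by
    intro a ha l hl
    rw [← map_commutatorElement]
    exact (QuotientGroup.eq_one_iff _).2 (hcen a ha l hl)
  have hA2 : ∀ a ∈ A, ∀ l ∈ L, ⁅q l, q a⁆ = 1 := by
    intro a ha l hl
    rw [← inv_eq_one, commutatorElement_inv]
    exact hA1 a ha l hl
  have hpowl : ∀ x ∈ L, ∀ z ∈ L, ∀ n : ℕ, ⁅q (x ^ n), q z⁆ = ⁅q x, q z⁆ ^ n := by
    intro x hx z hz n
    induction n with
    | zero => simp
    | succ n ih => rw [pow_succ, hbl _ (pow_mem hx n) _ hx _ hz, ih, pow_succ]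
  have hps : ∀ x ∈ L, ∀ z ∈ L, ⁅q x, q z⁆ ^ s = 1 := by
    intro x hx z hz
    rw [← hpowl x hx z hz, hA1 _ (hexp x hx) z hz]
  let b : L → L → ZMod s := fun l l' => τ ⟨⁅q l, q l'⁆, hcQ l l.2 l' l'.2⟩
  have hsub1 : ∀ (t : H ⧸ N) (ht : t ∈ Q), t ^ s = 1 → (⟨t, ht⟩ : Q) ^ s = 1 := fun t ht h => Subtype.ext h
  have hb1 : ∀ x y z : L, b (x * y) z = b x z + b y z := by
    intro x y z
    change τ _ = τ _ + τ _
    rw [← hτadd _ _ (hsub1 _ _ (hps x x.2 z z.2)) (hsub1 _ _ (hps y y.2 z z.2))]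
    congr 1
    exact Subtype.ext (hbl x x.2 y y.2 z z.2)
  have hb2 : ∀ x y z : L, b x (y * z) = b x y + b x z := by
    intro x y z
    change τ _ = τ _ + τ _
    rw [← hτadd _ _ (hsub1 _ _ (hps x x.2 y y.2)) (hsub1 _ _ (hps x x.2 z z.2))]
    congr 1
    exact Subtype.ext (hbr x x.2 y y.2 z z.2)
  have hτ1 : τ 1 = 0 := by
    have h1 := hτadd 1 1 (one_pow s) (one_pow s)
    rw [mul_one] at h1
    exact left_eq_add.1 h1
  have hb0 : ∀ x z : L, b x z = 0 ↔ ⁅(x : H), (z : H)⁆ ∈ N := by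
    intro x z
    have h1 : ⁅(x : H), (z : H)⁆ ∈ N ↔ ⁅q x, q z⁆ = 1 := by
      rw [← map_commutatorElement]; exact (QuotientGroup.eq_one_iff _).symm
    rw [h1]
    constructor
    · intro h
      exact congrArg Subtype.val (hτinj _ (hsub1 _ _ (hps x x.2 z z.2)) h)
    · intro h
      have h2 : (⟨⁅q x, q z⁆, hcQ x x.2 z z.2⟩ : Q) = 1 := Subtype.ext h
      change τ _ = 0
      rw [h2, hτ1]
  have hbA1 : ∀ x z : L, (x : H) ∈ A → b x z = 0 := fun x z hx => (hb0 x z).2 (hcen x hx z z.2)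
  have hbA2 : ∀ x z : L, (z : H) ∈ A → b x z = 0 := fun x z hz => (hb0 x z).2 (by
    rw [← commutatorElement_inv]
    exact inv_mem (hcen z hz x x.2))
  let σ : U → L := fun u => (hsurj (Multiplicative.ofAdd u)).choose
  have hσ : ∀ u, a (σ u) = Multiplicative.ofAdd u := fun u => (hsurj (Multiplicative.ofAdd u)).choose_spec
  have heq1 : ∀ x y z : L, a x = a y → b x z = b y z := by
    intro x y z h
    have h1 : a (x * y⁻¹) = 1 := by rw [map_mul, map_inv, h, mul_inv_cancel]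
    have h2 := hbA1 (x * y⁻¹) z ((hker _).1 h1)
    have h3 := hb1 (x * y⁻¹) y z
    rw [inv_mul_cancel_right, h2, zero_add] at h3
    exact h3
  have heq2 : ∀ x y z : L, a x = a y → b z x = b z y := by
    intro x y z h
    have h1 : a (x * y⁻¹) = 1 := by rw [map_mul, map_inv, h, mul_inv_cancel]
    have h2 := hbA2 z (x * y⁻¹) ((hker _).1 h1)
    have h3 := hb2 z (x * y⁻¹) y
    rw [inv_mul_cancel_right, h2, zero_add] at h3
    exact h3
  have hB : ∀ l l' : L, b (σ (a l).toAdd) (σ (a l').toAdd) = b l l' := by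
    intro l l'
    rw [heq1 (σ (a l).toAdd) l _ (hσ _), heq2 (σ (a l').toAdd) l' _ (hσ _)]
  have hrep : ∀ u : U, ∃ l : L, (a l).toAdd = u := fun u => ⟨σ u, by rw [hσ]; rfl⟩
  refine ⟨fun u v => b (σ u) (σ v), ?_, ?_, ?_, ?_, ?_, ?_, ?_⟩
  · intro u v w
    obtain ⟨x, rfl⟩ := hrep u
    obtain ⟨y, rfl⟩ := hrep v
    obtain ⟨z, rfl⟩ := hrep w
    have h1 : (a x).toAdd + (a y).toAdd = (a (x * y)).toAdd := by rw [map_mul]; rfl
    simp only [h1, hB, hb1]
  · intro u v w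
    obtain ⟨x, rfl⟩ := hrep u
    obtain ⟨y, rfl⟩ := hrep v
    obtain ⟨z, rfl⟩ := hrep w
    have h1 : (a y).toAdd + (a z).toAdd = (a (y * z)).toAdd := by rw [map_mul]; rfl
    simp only [h1, hB, hb2]
  · intro u
    exact (hb0 _ _).2 (by rw [commutatorElement_self]; exact one_mem N)
  · intro u hu
    obtain ⟨x, rfl⟩ := hrep u
    have h1 : (x : H) ∈ A := hnd x x.2 fun l' hl' => by
      have h2 := hu (a ⟨l', hl'⟩).toAdd
      simp only [hB] at h2
      exact (hb0 _ _).1 h2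
    rw [(hker x).2 h1]; rfl
  · intro h
    -- conjugation by `h` on `Q`
    have hQn : Q.Normal := hA.map q (QuotientGroup.mk'_surjective N)
    obtain ⟨c, hc⟩ := hτα ((MulAut.conjNormal (q h) : MulAut Q).toMonoidHom)
    refine ⟨c, fun u v => ?_⟩
    obtain ⟨x, rfl⟩ := hrep u
    obtain ⟨y, rfl⟩ := hrep v
    rw [← hequiv h x x.2 (hL.conj_mem _ x.2 h), ← hequiv h y y.2 (hL.conj_mem _ y.2 h)]
    simp only [hB]
    change τ _ = c * τ _
    rw [← hc _ (hsub1 _ _ (hps x x.2 y y.2))]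
    congr 1
    apply Subtype.ext
    change ⁅q (h * x * h⁻¹), q (h * y * h⁻¹)⁆ = ((MulAut.conjNormal (q h) (⟨⁅q x, q y⁆, _⟩ : Q) : Q) : H ⧸ N)
    rw [MulAut.conjNormal_apply]
    simp only [map_mul, map_inv, commutatorElement_def]
    group
  · intro h hh u v
    obtain ⟨x, rfl⟩ := hrep u
    obtain ⟨y, rfl⟩ := hrep v
    rw [← hequiv h x x.2 (hL.conj_mem _ x.2 h), ← hequiv h y y.2 (hL.conj_mem _ y.2 h)]
    simp only [hB]
    change τ _ = τ _
    congr 1
    apply Subtype.ext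
    change ⁅q (h * x * h⁻¹), q (h * y * h⁻¹)⁆ = ⁅q x, q y⁆
    have h1 : q ⁅h, ⁅(x : H), (y : H)⁆⁆ = 1 := (QuotientGroup.eq_one_iff _).2 (hh _ (hab x x.2 y y.2))
    rw [map_commutatorElement, commutatorElement_eq_one_iff_mul_comm, map_commutatorElement] at h1
    have h2 : ⁅q (h * x * h⁻¹), q (h * y * h⁻¹)⁆ = q h * ⁅q x, q y⁆ * (q h)⁻¹ := by
      simp only [map_mul, map_inv, commutatorElement_def]
      group
    rw [h2, h1, mul_inv_cancel_right]
  · intro l l'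
    simp only [hB]
    exact hb0 l l'

end Cfsg.Agent.H662.GW
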