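import Cfsg.Agent.H662.GW.IneqFin
import Cfsg.Agent.H662.GW.QPImp
import Cfsg.Agent.H727.GW.Sp
import Cfsg.Agent.H662.GW.AllCentral
import Cfsg.Agent.H586.GW.NoComp
import Cfsg.Agent.H586.GW.Final
import Cfsg.Agent.H615.GW.Abelian
import Cfsg.Agent.H397.GW.Num
import Cfsg.Agent.H116.GW.Fin

/-!
# Gluck-Wolf: no core for `p = r` odd (helper662)
-/

set_option autoImplicit false

open scoped commutatorElement

namespace Cfsg.Agent.H662.GW

open Cfsg.Agent.H586.GW Cfsg.Agent.H511.Wt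

universe u

/-- the small cases -/
structure Small : Prop where
  small3 : ∀ {n j : ℕ} {Y U : Type u} [Group Y] [Finite Y] [AddCommGroup U] [Finite U] [DistribMulAction Y U]
    {X : Subgroup Y} {x : Y} {B : U → U → ZMod 2}, SA (U := U) 3 2 n j X x B → n ≤ 5 → X = ⊥
  small3' : ∀ {n j f : ℕ} {Y U : Type u} [Group Y] [Finite Y] [AddCommGroup U] [Finite U] [DistribMulAction Y U]
    {X : Subgroup Y} {x : Y} {B : U → U → ZMod 2}, SA (U := U) 3 2 n j X x B → n ≤ 8 → 1 ≤ f →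
    Ineq 3 2 n j (3 ^ f) (Subgroup.centralizer ({x} : Set Y)).index → n ≤ 5
  small5 : ∀ {n j : ℕ} {Y U : Type u} [Group Y] [Finite Y] [AddCommGroup U] [Finite U] [DistribMulAction Y U]
    {X : Subgroup Y} {x : Y} {B : U → U → ZMod 2}, SA (U := U) 5 2 n j X x B → n ≤ 4 → X = ⊥
  small5' : ∀ {n j f : ℕ} {Y U : Type u} [Group Y] [Finite Y] [AddCommGroup U] [Finite U] [DistribMulAction Y U]
    {X : Subgroup Y} {x : Y} {B : U → U → ZMod 2}, SA (U := U) 5 2 n j X x B → n ≤ 5 → 1 ≤ f →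
    Ineq 5 2 n j (5 ^ f) (Subgroup.centralizer ({x} : Set Y)).index → n ≤ 4
  small7 : ∀ {n j : ℕ} {Y U : Type u} [Group Y] [Finite Y] [AddCommGroup U] [Finite U] [DistribMulAction Y U]
    {X : Subgroup Y} {x : Y} {B : U → U → ZMod 2}, SA (U := U) 7 2 n j X x B → n ≤ 4 → X = ⊥

section
variable {p s n j : ℕ} {Y U : Type u} [Group Y] [Finite Y] [AddCommGroup U] [Finite U]
    [DistribMulAction Y U] {X : Subgroup Y} {x : Y} {B : U → U → ZMod s}

theorem index_le_card (hX : X.index = p) (hp : p.Prime) (hx : orderOf x = p) :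
    (Subgroup.centralizer ({x} : Set Y)).index ≤ Nat.card X := by
  have h1 : p ≤ Nat.card (Subgroup.centralizer ({x} : Set Y)) := by
    have hmem : x ∈ Subgroup.centralizer ({x} : Set Y) := Subgroup.mem_centralizer_singleton_iff.2 rfl
    have h2 := Subgroup.orderOf_dvd_natCard _ hmem
    rw [hx] at h2
    exact Nat.le_of_dvd Nat.card_pos h2
  have h2 : (Subgroup.centralizer ({x} : Set Y)).index * Nat.card (Subgroup.centralizer ({x} : Set Y)) =
      p * Nat.card X := by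
    rw [Subgroup.index_mul_card, ← hX, Subgroup.index_mul_card]
  have h3 : p * (Subgroup.centralizer ({x} : Set Y)).index ≤ p * Nat.card X := by
    rw [← h2, mul_comm]
    exact Nat.mul_le_mul_left _ h1
  exact Nat.le_of_mul_le_mul_left h3 hp.pos

theorem sp_pos (hs : s.Prime) (n : ℕ) : 0 < s ^ (n ^ 2) * ∏ i ∈ Finset.range n, (s ^ (2 * (i + 1)) - 1) := by
  refine Nat.mul_pos (pow_pos hs.pos _) (Finset.prod_pos fun i _ => ?_)
  have := Nat.one_lt_pow (n := 2 * (i + 1)) (by omega) hs.one_lt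
  omega

/-- linear case: `X = ⊥` -/
theorem sa_bot (S : Small.{u}) {f : ℕ} (hp2 : p ≠ 2) (h : SA (U := U) p s n j X x B) (hf : 1 ≤ f) (hsf : s ∣ p ^ f - 1)
    (hI : Ineq p s n j (p ^ f) (Subgroup.centralizer ({x} : Set Y)).index) : X = ⊥ := by
  have hM : (Subgroup.centralizer ({x} : Set Y)).index ≤
      s ^ (n ^ 2) * ∏ i ∈ Finset.range n, (s ^ (2 * (i + 1)) - 1) :=
    (index_le_card h.idx h.hp h.ord).trans (Nat.le_of_dvd (sp_pos h.hs n) (H727.GW.SR.card_dvd h.toSR))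
  obtain ⟨rfl, hc⟩ := H397.GW.num h.hp h.hs h.hps hp2 h.hj h.hjn (H727.GW.SA.exists_dvd h) hf hsf hM hI
  rcases hc with ⟨rfl, hn⟩ | ⟨rfl, hn⟩ | ⟨rfl, hn⟩
  · exact S.small3 h (S.small3' h hn hf hI)
  · exact S.small5 h (S.small5' h hn hf hI)
  · exact S.small7 h hn

end

section
variable {H V : Type u} [Group H] [Finite H] [AddCommGroup V] [Finite V] [DistribMulAction H V]
  {K N : Subgroup H}

/-- chief factors above the centre are central -/
theorem chief_odd (S : Small.{u}) {p : ℕ} (hp : p.Prime) (hp2 : p ≠ 2) {φ : N →* ℂˣ} (F : SimpleFacts.{u}) (h3513 : S3513Stmt)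
    (C : Core (V := V) p p K N φ) (hqp : QP V K N) [N.Normal] {L : Subgroup H} (hL : ChiefAbove K N L) :
    ∀ k ∈ K, ∀ l ∈ L, ⁅k, l⁆ ∈ cenK K N := by
  have hab := core_nocomp' F h3513 hp C (cenK K N) L (cenK_normal C.nK) hL.nL
    (fun n hn => ⟨C.NK hn, fun y _ => by
      have h := Subgroup.mem_center_iff.1 (C.cen hn) y
      have h1 : ⁅n, y⁆ = 1 := by rw [commutatorElement_eq_one_iff_mul_comm]; exact h.symm
      rw [h1]; exact one_mem N⟩) hL.le hL.LK (fun a ha k hk => ha.2 k hk) hL.min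
  obtain ⟨s, n, x, U, Y, W, _, _, _, _, _, _, _, G, _, hxG, B, π, a, hxK, hxp, hπs, hSR, hLW, hlin, hπ1⟩ :=
    chief_data C hp hp hqp hL.nL hL.le hL.ne hL.LK hL.min hab
  obtain ⟨f, hf, hsf, hI⟩ := LW_ineq hLW (x := ⟨x, hxG⟩) hxK (Subtype.ext hxp)
  have hbot : K.map π = ⊥ := by
    rcases hI with ⟨hZ, hj⟩ | ⟨f₀, hf₀, hff, hI⟩
    · obtain ⟨j, hSA⟩ := H727.GW.SR.exists_SA hSR (hlin hZ)
      exact sa_bot S hp2 hSA hf hsf (hj j hSA.hjn hSA.fix)
    · exfalso
      have hM : (Subgroup.centralizer ({π x} : Set Y)).index ≤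
          s ^ (n ^ 2) * ∏ i ∈ Finset.range n, (s ^ (2 * (i + 1)) - 1) :=
        (index_le_card hSR.idx hp hSR.ord).trans (Nat.le_of_dvd (sp_pos hSR.hs n) (H727.GW.SR.card_dvd hSR))
      have hpos : 1 ≤ Nat.card {u : U // π x • u = u} := by
        have : Nonempty {u : U // π x • u = u} := ⟨⟨0, smul_zero _⟩⟩
        exact Nat.card_pos
      have hI' : ((p ^ f) ^ (s ^ n) - 1) * (p ^ f₀ - 1) ≤
          s ^ (2 * n) * (Subgroup.centralizer ({π x} : Set Y)).index * ((p ^ f₀) ^ (s ^ n) - 1) * (p ^ f - 1) :=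
        (Nat.le_mul_of_pos_right _ hpos).trans hI
      obtain ⟨rfl, rfl, hn⟩ := H397.GW.num' hp hSR.hs hSR.hps hp2 hSR.hn hf₀ hsf hM hff hI'
      obtain ⟨j, hSA⟩ := H727.GW.SR.exists_SA_two hSR
      have hX := S.small3 hSA (hn.trans (by norm_num))
      exact H116.GW.final_sr hSR hX hf₀ hff hI'
  intro k hk
  refine (hπ1 k).1 ?_
  have h1 : π k ∈ K.map π := ⟨k, hk, rfl⟩
  rw [hbot] at h1
  exact h1

end

theorem noCore_odd_of (S : Small.{u}) {p : ℕ} (hp : p.Prime) (hp2 : p ≠ 2) (F : SimpleFacts.{u}) (h3513 : S3513Stmt)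
    (himp : ∀ {H V : Type u} [Group H] [Finite H] [AddCommGroup V] [Finite V] [DistribMulAction H V]
      (K N : Subgroup H) (φ : N →* ℂˣ), Core (V := V) p p K N φ → ¬ ImpP H V) : NoCore.{u} p p := by
  intro H V _ _ _ _ _ K N φ C
  have hN : N.Normal := core_nN C
  have hqp : QP V K N := qp_of_not_impP C (himp K N φ C)
  refine H615.GW.core_abelian hp hp C hqp (cenK K N) (cenK_normal C.nK)
    (fun n hn => ⟨C.NK hn, fun y _ => by
      have h := Subgroup.mem_center_iff.1 (C.cen hn) y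
      have h1 : ⁅n, y⁆ = 1 := by rw [commutatorElement_eq_one_iff_mul_comm]; exact h.symm
      rw [h1]; exact one_mem N⟩) (fun k hk => hk.1) (fun a ha k hk => ha.2 k hk)
    (comm_mem_of_all C hp hqp fun L hL => chief_odd S hp hp2 F h3513 C hqp hL)

end Cfsg.Agent.H662.GW
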