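import Cfsg.Agent.H662.GW.TwoFin
import Cfsg.Agent.H662.GW.AsmOdd
import Cfsg.Agent.H586.GW.ImpRFin
import Cfsg.Agent.H461.GW.Small3
import Cfsg.Agent.H461.GW.Small57
import Cfsg.Agent.H461.GW.Small5
import Cfsg.Agent.H724.GW.Small5p
import Cfsg.Agent.H89.GW.Small3Prime

/-!
# Gluck-Wolf: no core for `p = r` (TEAM GW)
-/

set_option autoImplicit false

namespace Cfsg.Agent.H662.GW

open Cfsg.Agent.H586.GW

universe u

theorem small : Small.{u} where
  small3 := fun h hn => H461.GW.small3 h hn
  small3' := fun h hn hf hI => H89.GW.small3' h hn hf hI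
  small5 := fun h hn => H461.GW.small5 h hn
  small5' := fun h hn hf hI => H724.GW.small5' h hn hf hI
  small7 := fun h hn => H461.GW.small7 h hn

/-- The core situation with `V` in characteristic `p` does not occur. -/
theorem noCore (p : ℕ) [hp : Fact p.Prime] : NoCore.{u} p p := by
  by_cases h2 : p = 2
  · subst h2
    exact noCore_two
  · exact noCore_odd_of small hp.out h2 simpleFacts s3513Stmt fun _ _ _ C =>
      C.not_impP_odd_fin hp.out hp.out h2

end Cfsg.Agent.H662.GW
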